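import Groth.Agent.IndEt.Ops
import Groth.Prelude.Def_ProEtW
import Groth.Agent.AlgSpLoc.EtaleLift
import Groth.Agent.AlgSpc.EtLift
import Groth.Agent.Hensel.EtaleLift
import Mathlib.Algebra.Category.CommAlgCat.Basic
import Mathlib.RingTheory.Etale.Pi
import Mathlib.RingTheory.Spectrum.Prime.Chevalley
import Mathlib.RingTheory.Localization.Away.Basic
import Mathlib.RingTheory.Flat.FaithfullyFlat.Algebra

/-!
# Rings with étale retractions: retractions of étale algebras covering a closed set
-/

set_option autoImplicit false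
set_option backward.isDefEq.respectTransparency false

universe u

open TensorProduct

namespace Groth.Agent.IndEt

variable {A : Type u} [CommRing A]

/-- étale algebras whose image contains `V(I)` have points in algebras supported near `V(I)` -/
theorem exists_hom_of_image (hA : ProEtW.HasEtaleRetractions A) (I : Ideal A)
    (B : Type u) [CommRing B] [Algebra A B]
    (hB : ∀ M : Ideal B, M.IsMaximal → I ≤ M.comap (algebraMap A B))
    (S : Type u) [CommRing S] [Algebra A S] [Algebra.Etale A S]
    (hS : ∀ p : PrimeSpectrum A, I ≤ p.asIdeal →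
      p ∈ Set.range (PrimeSpectrum.comap (algebraMap A S))) :
    Nonempty (S →ₐ[A] B) := by
  classical
  let U := Set.range (PrimeSpectrum.comap (algebraMap A S))
  have hU : IsOpen U :=
    (PrimeSpectrum.isOpenMap_comap_of_hasGoingDown_of_finitePresentation (R := A) (S := S)).isOpen_range
  let J := PrimeSpectrum.vanishingIdeal Uᶜ
  have hJ : PrimeSpectrum.zeroLocus (J : Set A) = Uᶜ := by
    rw [PrimeSpectrum.zeroLocus_vanishingIdeal_eq_closure, hU.isClosed_compl.closure_eq]
  have htop : I ⊔ J = ⊤ := by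
    by_contra h
    obtain ⟨m, hm, hle⟩ := Ideal.exists_le_maximal _ h
    have h1 : (⟨m, hm.isPrime⟩ : PrimeSpectrum A) ∈ PrimeSpectrum.zeroLocus (J : Set A) :=
      fun x hx => hle (Ideal.mem_sup_right hx)
    rw [hJ] at h1
    exact h1 (hS _ fun x hx => hle (Ideal.mem_sup_left hx))
  obtain ⟨i, hi, g, hg, hig⟩ := Submodule.mem_sup.mp (htop.ge (Submodule.mem_top : (1 : A) ∈ ⊤))
  let F : Bool → CommAlgCat.{u} A := fun b =>
    cond b (CommAlgCat.of A S) (CommAlgCat.of A (Localization.Away i))
  have : ∀ b, Algebra.Etale A (F b) := fun b => by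
    cases b
    · change Algebra.Etale A (Localization.Away i); exact Algebra.Etale.of_isLocalizationAway i
    · change Algebra.Etale A S; infer_instance
  let E := ∀ b, F b
  have : Module.FaithfullyFlat A E := by
    refine Module.FaithfullyFlat.of_comap_surjective fun p => ?_
    by_cases hp : p ∈ U
    · obtain ⟨q, rfl⟩ := hp
      exact ⟨PrimeSpectrum.comap (Pi.evalRingHom (fun b => (F b : Type u)) true) q,
        (PrimeSpectrum.comap_comp_apply _ _ _).symm⟩
    · have hip : i ∉ p.asIdeal := fun h => by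
        have hgp : g ∈ p.asIdeal :=
          (show p ∈ PrimeSpectrum.zeroLocus (J : Set A) by rw [hJ]; exact hp) hg
        exact p.2.ne_top ((Ideal.eq_top_iff_one _).2 (hig ▸ add_mem h hgp))
      obtain ⟨q, hq⟩ := (PrimeSpectrum.localization_away_comap_range (Localization.Away i) i).ge
        (show p ∈ (PrimeSpectrum.basicOpen i : Set (PrimeSpectrum A)) from hip)
      exact ⟨PrimeSpectrum.comap (Pi.evalRingHom (fun b => (F b : Type u)) false) q,
        (PrimeSpectrum.comap_comp_apply _ _ _).symm.trans hq⟩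
  obtain ⟨r⟩ := hA E inferInstance inferInstance
  let ρ : E →ₐ[A] B := (Algebra.ofId A B).comp r
  let e : E := Pi.single false 1
  have hi' : algebraMap A E i * Pi.single false (IsLocalization.Away.invSelf i :
      Localization.Away i) = e := by
    funext b
    cases b
    · change algebraMap A (Localization.Away i) i * IsLocalization.Away.invSelf i = 1
      exact IsLocalization.Away.mul_invSelf i
    · change algebraMap A S i * 0 = 0
      exact mul_zero _
  have hee : e * e = e := by
    funext b
    cases b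
    · exact mul_one _
    · exact mul_zero _
  have hε : ρ e = 0 := by
    have hu : IsUnit (1 - ρ e) := by
      by_contra h
      obtain ⟨M, hM, hmem⟩ := exists_max_ideal_of_mem_nonunits h
      have : ρ e ∈ M := by
        rw [← hi', map_mul, AlgHom.commutes]
        exact Ideal.mul_mem_right _ _ (hB M hM hi)
      exact hM.ne_top ((Ideal.eq_top_iff_one _).2 (by simpa using add_mem hmem this))
    refine hu.mul_left_eq_zero.mp ?_
    rw [mul_sub, mul_one, ← map_mul, hee, sub_self]
  have hsplit : Pi.single true (1 : S) + e = (1 : E) := by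
    funext b
    cases b
    · exact zero_add _
    · exact add_zero _
  let φ : S →+* B :=
    { toFun := fun s => ρ (Pi.single true s)
      map_one' := by
        have := congrArg ρ hsplit
        rwa [map_add, hε, add_zero, map_one] at this
      map_mul' := fun x y => by rw [← map_mul, ← Pi.single_mul]
      map_zero' := by simp
      map_add' := fun x y => by rw [← map_add, ← Pi.single_add] }
  refine ⟨{ φ with commutes' := fun a => ?_ }⟩
  change ρ (Pi.single true (algebraMap A S a)) = algebraMap A B a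
  have : algebraMap A E a = Pi.single true (algebraMap A S a) + algebraMap A E a * e := by
    funext b
    cases b
    · change algebraMap A (Localization.Away i) a = 0 + algebraMap A (Localization.Away i) a * 1
      simp
    · change algebraMap A S a = algebraMap A S a + algebraMap A S a * 0
      simp
  have h2 := congrArg ρ this
  rw [map_add, map_mul, hε, mul_zero, add_zero, AlgHom.commutes] at h2
  exact h2.symm

/-! ### descent along a localization -/

variable {B : Type u} [CommRing B] [Algebra A B] (M : Submonoid A) [IsLocalization M B]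

include M in
/-- a finitely presented algebra maps into a localization through a basic localization -/
theorem exists_stage_localization (C : Type u) [CommRing C] [Algebra A C]
    [Algebra.FinitePresentation A C] (g : C →ₐ[A] B) :
    ∃ s ∈ M, ∃ (u : C →ₐ[A] Localization.Away s) (v : Localization.Away s →ₐ[A] B),
      v.comp u = g := by
  classical
  obtain ⟨n, π, hπ, hker⟩ := ‹Algebra.FinitePresentation A C›.out
  obtain ⟨R, hR⟩ := hker
  obtain ⟨s₁, hs₁⟩ := IsLocalization.exist_integer_multiples_of_finset M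
    (Finset.univ.image fun j => g (π (MvPolynomial.X j)))
  choose a ha using fun j => hs₁ _ (Finset.mem_image_of_mem _ (Finset.mem_univ j))
  have lift : ∀ s ∈ M, ∃ v : Localization.Away s →ₐ[A] B, True := fun s hs =>
    ⟨IsLocalization.liftAlgHom (M := Submonoid.powers s) (f := Algebra.ofId A B)
      (fun y => by
        obtain ⟨k, hk⟩ := y.2
        have : IsUnit (algebraMap A B s) := IsLocalization.map_units B ⟨s, hs⟩
        rw [← hk, map_pow]
        exact this.pow k), trivial⟩
  obtain ⟨v₁, -⟩ := lift s₁ s₁.2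
  let φ : MvPolynomial (Fin n) A →ₐ[A] Localization.Away (s₁ : A) :=
    MvPolynomial.aeval fun j => algebraMap A _ (a j) * IsLocalization.Away.invSelf (s₁ : A)
  have hφ : v₁.comp φ = g.comp π := by
    refine MvPolynomial.algHom_ext fun j => ?_
    have hu : IsUnit (algebraMap A B (s₁ : A)) := IsLocalization.map_units B s₁
    refine hu.mul_left_cancel ?_
    have h1 : v₁ (IsLocalization.Away.invSelf (s₁ : A)) * algebraMap A B (s₁ : A) = 1 := by
      rw [← v₁.commutes, ← map_mul, mul_comm, IsLocalization.Away.mul_invSelf, map_one]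
    simp only [AlgHom.comp_apply, φ, MvPolynomial.aeval_X, map_mul, AlgHom.commutes, ha]
    rw [Algebra.smul_def, ← mul_assoc, mul_comm _ (v₁ _), ← mul_assoc, ← mul_assoc, h1, one_mul]
  have key : ∀ r ∈ R, ∃ t ∈ M, algebraMap A (Localization.Away (s₁ : A)) t * φ r = 0 := by
    intro r hr
    obtain ⟨⟨c, s, hs⟩, hc⟩ :=
      IsLocalization.surj (Submonoid.powers (s₁ : A)) (φ r)
    have h0 : algebraMap A B c = 0 := by
      have hz : v₁ (φ r) = 0 := by
        rw [← AlgHom.comp_apply, hφ, AlgHom.comp_apply,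
          show π r = 0 from hR.le (Submodule.subset_span hr), map_zero]
      rw [← v₁.commutes, ← hc, map_mul, hz, zero_mul]
    obtain ⟨t, ht⟩ := (IsLocalization.map_eq_zero_iff M B c).mp h0
    refine ⟨t, t.2, ?_⟩
    have hsu : IsUnit (algebraMap A (Localization.Away (s₁ : A)) s) :=
      IsLocalization.map_units (M := Submonoid.powers (s₁ : A)) _ ⟨s, hs⟩
    refine hsu.mul_left_eq_zero.mp ?_
    rw [mul_assoc, hc, ← map_mul, ht, map_zero]
  choose! t htM ht using key
  let t₀ := ∏ r ∈ R, t r
  have ht₀ : t₀ ∈ M := Submonoid.prod_mem M fun r hr => htM r hr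
  have hst : (s₁ : A) * t₀ ∈ M := mul_mem s₁.2 ht₀
  obtain ⟨v₂, -⟩ := lift _ hst
  let θ : Localization.Away (s₁ : A) →ₐ[A] Localization.Away ((s₁ : A) * t₀) :=
    { IsLocalization.Away.awayToAwayRight (s₁ : A) t₀ with
      commutes' := fun x => IsLocalization.Away.awayToAwayRight_eq _ _ x }
  have hle : RingHom.ker π ≤ RingHom.ker (θ.comp φ) := by
    rw [show RingHom.ker π = Ideal.span (R : Set _) from hR.symm]
    refine Ideal.span_le.mpr fun r hr => ?_
    change θ (φ r) = 0
    have hd : IsUnit (algebraMap A (Localization.Away ((s₁ : A) * t₀)) (t r)) :=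
      isUnit_of_dvd_unit
        (map_dvd _ ((Finset.dvd_prod_of_mem t hr).trans (dvd_mul_left t₀ (s₁ : A))))
        (IsLocalization.Away.algebraMap_isUnit _)
    refine hd.mul_right_eq_zero.mp ?_
    rw [← θ.commutes, ← map_mul, ht r hr, map_zero]
  refine ⟨_, hst, (Ideal.Quotient.liftₐ _ (θ.comp φ) hle).comp
    (Ideal.quotientKerAlgEquivOfSurjective hπ).symm.toAlgHom, v₂, ?_⟩
  have hv : v₂.comp θ = v₁ :=
    IsLocalization.algHom_ext (Submonoid.powers (s₁ : A)) (Subsingleton.elim _ _)
  refine AlgHom.ext fun x => ?_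
  obtain ⟨y, rfl⟩ := hπ x
  have hy : (Ideal.quotientKerAlgEquivOfSurjective hπ).symm (π y) =
      Ideal.Quotient.mk _ y := (AlgEquiv.symm_apply_eq _).2 rfl
  change v₂ (Ideal.Quotient.liftₐ _ (θ.comp φ) hle
    ((Ideal.quotientKerAlgEquivOfSurjective hπ).symm (π y))) = g (π y)
  rw [hy]
  change v₂ (θ (φ y)) = g (π y)
  rw [← AlgHom.comp_apply v₂ θ, hv, ← AlgHom.comp_apply, hφ, AlgHom.comp_apply]

include M in
/-- étale algebras over a localization with points over `V(I)` have retractions -/
theorem exists_hom_of_etale_localization (hA : ProEtW.HasEtaleRetractions A) (I : Ideal A)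
    (hB : ∀ P : Ideal B, P.IsMaximal → I ≤ P.comap (algebraMap A B))
    (C : Type u) [CommRing C] [Algebra B C] [Algebra.Etale B C]
    (hC : ∀ p : PrimeSpectrum A, I ≤ p.asIdeal → p ∈ Set.range
      (PrimeSpectrum.comap ((algebraMap B C).comp (algebraMap A B)))) :
    Nonempty (C →ₐ[B] B) := by
  obtain ⟨B₀, F₀, _, _, hfg, hF₀, ⟨eF⟩⟩ :=
    Algebra.Etale.exists_subalgebra_fg (R := ℤ) (A := B) (B := C)
  have : Algebra.FiniteType ℤ B₀ := ⟨(Subalgebra.fg_top B₀).mpr hfg⟩
  have : Algebra.FinitePresentation ℤ B₀ := Algebra.FinitePresentation.of_finiteType.mp this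
  let g : A ⊗[ℤ] B₀ →ₐ[A] B := Algebra.TensorProduct.lift (Algebra.ofId A B)
    B₀.val fun _ _ => .all _ _
  obtain ⟨s, hs, u, v, huv⟩ := exists_stage_localization M (A ⊗[ℤ] B₀) g
  let As := Localization.Away s
  let w : B₀ →+* As :=
    u.toRingHom.comp (Algebra.TensorProduct.includeRight (R := ℤ) (A := A)).toRingHom
  have hwv : ∀ b : B₀, v (w b) = b := fun b => by
    refine (DFunLike.congr_fun huv ((1 : A) ⊗ₜ[ℤ] b)).trans ?_
    simp [g]
  let : Algebra B₀ As := w.toAlgebra
  let : Algebra As B := v.toRingHom.toAlgebra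
  have : IsScalarTower B₀ As B := .of_algebraMap_eq fun b => (hwv b).symm
  have : IsScalarTower A As B := .of_algebraMap_eq fun a => (v.commutes a).symm
  have : Algebra.Etale A As := Algebra.Etale.of_isLocalizationAway s
  have : Algebra.Etale A (As ⊗[B₀] F₀) := Algebra.Etale.comp A As _
  let e : B ⊗[As] (As ⊗[B₀] F₀) ≃ₐ[B] C :=
    (Algebra.TensorProduct.cancelBaseChange B₀ As B B F₀).trans eF.symm
  let ι : As ⊗[B₀] F₀ →+* C :=
    e.toRingHom.comp (Algebra.TensorProduct.includeRight (R := As) (A := B)).toRingHom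
  have hι : ι.comp (algebraMap A (As ⊗[B₀] F₀)) = (algebraMap B C).comp (algebraMap A B) := by
    ext a
    change e ((1 : B) ⊗ₜ[As] algebraMap A (As ⊗[B₀] F₀) a) = algebraMap B C (algebraMap A B a)
    rw [← e.commutes]
    congr 1
    rw [IsScalarTower.algebraMap_apply A As (As ⊗[B₀] F₀),
      IsScalarTower.algebraMap_apply A As B]
    exact (((Algebra.TensorProduct.includeRight (R := As) (A := B)).commutes _).trans
      (IsScalarTower.algebraMap_apply As B _ _))
  obtain ⟨φ⟩ := exists_hom_of_image hA I B hB (As ⊗[B₀] F₀) fun p hp => by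
    obtain ⟨q, rfl⟩ := hC p hp
    exact ⟨PrimeSpectrum.comap ι q, by rw [← PrimeSpectrum.comap_comp_apply, hι]⟩
  have hvφ : (φ.comp (IsScalarTower.toAlgHom A As _)) = v :=
    IsLocalization.algHom_ext (Submonoid.powers s) (Subsingleton.elim _ _)
  let φ' : As ⊗[B₀] F₀ →ₐ[As] B :=
    { φ.toRingHom with commutes' := fun x => DFunLike.congr_fun hvφ x }
  exact ⟨(Algebra.TensorProduct.lift (Algebra.ofId B B) φ' fun _ _ => .all _ _).comp
    e.symm.toAlgHom⟩

end Groth.Agent.IndEt

namespace Groth.Agent.IndEt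

variable {A : Type u} [CommRing A]

theorem hasEtaleRetractions_quotient (hA : ProEtW.HasEtaleRetractions A) (I : Ideal A) :
    ProEtW.HasEtaleRetractions (A ⧸ I) := by
  intro C _ _ hff het
  obtain ⟨S, _, _, hS, ⟨e⟩⟩ := AlgSpLoc.exists_etale_lift A I C
  obtain ⟨φ⟩ := exists_hom_of_image hA I (A ⧸ I) (fun M _ i hi => by
      rw [Ideal.mem_comap, Ideal.Quotient.algebraMap_eq, Ideal.Quotient.eq_zero_iff_mem.mpr hi]
      exact zero_mem M) S
    fun p hp => by
      obtain ⟨q, rfl⟩ : ∃ q, PrimeSpectrum.comap (Ideal.Quotient.mk I) q = p := by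
        rw [← Set.mem_range]
        rw [range_comap_of_surjective _ (Ideal.Quotient.mk I) Ideal.Quotient.mk_surjective, Ideal.mk_ker]
        exact hp
      obtain ⟨r, rfl⟩ := PrimeSpectrum.comap_surjective_of_faithfullyFlat (A := A ⧸ I) (B := C) q
      let ι : S →+* C :=
        e.toRingHom.comp (Algebra.TensorProduct.includeRight (R := A) (A := A ⧸ I)).toRingHom
      refine ⟨PrimeSpectrum.comap ι r, ?_⟩
      rw [← PrimeSpectrum.comap_comp_apply, ← PrimeSpectrum.comap_comp_apply]
      refine congrArg (fun f => PrimeSpectrum.comap f r) (RingHom.ext fun a => ?_)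
      change e ((1 : A ⧸ I) ⊗ₜ[A] algebraMap A S a) = algebraMap (A ⧸ I) C (algebraMap A (A ⧸ I) a)
      rw [← e.commutes]
      exact congrArg e (((Algebra.TensorProduct.includeRight (R := A) (A := A ⧸ I)).commutes a).trans
        (IsScalarTower.algebraMap_apply A (A ⧸ I) _ a))
  exact ⟨(Algebra.TensorProduct.lift (Algebra.ofId (A ⧸ I) (A ⧸ I)) φ fun _ _ => .all _ _).comp
    e.symm.toAlgHom⟩

theorem hasEtaleRetractions_localization (hA : ProEtW.HasEtaleRetractions A) (B : Type u)
    [CommRing B] [Algebra A B] (S : Submonoid A) [IsLocalization S B] (I : Ideal A)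
    (hB : Set.range (PrimeSpectrum.comap (algebraMap A B)) =
      {x | ∃ z : PrimeSpectrum A, z ∈ PrimeSpectrum.zeroLocus (R := A) I ∧ x ⤳ z}) :
    ProEtW.HasEtaleRetractions B := by
  intro C _ _ hff het
  refine exists_hom_of_etale_localization S hA I (fun M hM => ?_) C fun p hp => ?_
  · obtain ⟨z, hz, hle⟩ := hB.le ⟨⟨M, hM.isPrime⟩, rfl⟩
    obtain ⟨q, rfl⟩ := hB.ge ⟨z, hz, specializes_rfl⟩
    have hle' : M.comap (algebraMap A B) ≤ q.asIdeal.comap (algebraMap A B) :=
      (PrimeSpectrum.le_iff_specializes _ _).mpr hle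
    have : M ≤ q.asIdeal := by
      rw [← IsLocalization.map_comap S B M, ← IsLocalization.map_comap S B q.asIdeal]
      exact Ideal.map_mono hle'
    rw [hM.eq_of_le q.2.ne_top this]
    exact hz
  · obtain ⟨q, rfl⟩ := hB.ge ⟨p, hp, specializes_rfl⟩
    obtain ⟨r, rfl⟩ := PrimeSpectrum.comap_surjective_of_faithfullyFlat (A := B) (B := C) q
    exact ⟨r, PrimeSpectrum.comap_comp_apply _ _ _⟩

theorem isStrictlyHenselian_atPrime (hA : ProEtW.HasEtaleRetractions A) (m : Ideal A)
    [m.IsMaximal] : EtCoh.IsStrictlyHenselianLocalRing (Localization.AtPrime m) := by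
  let R := Localization.AtPrime m
  let κ := IsLocalRing.ResidueField R
  have hB : ∀ P : Ideal R, P.IsMaximal → m ≤ P.comap (algebraMap A R) := fun P hP => by
    rw [IsLocalRing.eq_maximalIdeal hP]
    exact (IsLocalization.AtPrime.comap_maximalIdeal R m).ge
  -- algebras with a point in an extension of the residue field
  have hpt : ∀ (C : Type u) [CommRing C] [Algebra R C] [Algebra.Etale R C]
      (K : Type u) [Field K] (σ : C →+* K),
      (∀ a ∈ m, σ (algebraMap R C (algebraMap A R a)) = 0) → Nonempty (C →ₐ[R] R) := by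
    intro C _ _ _ K _ σ hσ
    refine exists_hom_of_etale_localization m.primeCompl hA m hB C fun p hp => ?_
    have hpm : m = p.asIdeal := ‹m.IsMaximal›.eq_of_le p.2.ne_top hp
    refine ⟨PrimeSpectrum.comap σ ⟨⊥, Ideal.isPrime_bot⟩, PrimeSpectrum.ext ?_⟩
    rw [← hpm]
    refine (‹m.IsMaximal›.eq_of_le (Ideal.IsPrime.ne_top inferInstance) fun a ha => ?_).symm
    exact Ideal.mem_bot.mpr (hσ a ha)
  have hres : ∀ a ∈ m, IsLocalRing.residue R (algebraMap A R a) = 0 := fun a ha =>
    (IsLocalRing.residue_eq_zero_iff _).mpr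
      ((IsLocalization.AtPrime.to_map_mem_maximal_iff R m a).mpr ha)
  refine ⟨Hensel.henselianLocalRing_of_retraction fun E _ _ _ σ =>
    hpt E κ σ.toRingHom fun a ha => ?_, ?_⟩
  · exact (σ.commutes _).trans (hres a ha)
  refine IsSepClosed.of_exists_root _ fun f hf hirr hsep => ?_
  obtain ⟨F, hF, -, hFm⟩ := Polynomial.lifts_and_natDegree_eq_and_monic
    (Polynomial.mem_lifts_of_surjective (f := IsLocalRing.residue R)
      IsLocalRing.residue_surjective f) hf
  let P : StandardEtalePair R := ⟨F, hFm, Polynomial.derivative F, ⟨1, 0, 1, by simp⟩⟩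
  have := Fact.mk hirr
  let K := AdjoinRoot f
  let _ : Algebra R K := ((AdjoinRoot.of f).comp (IsLocalRing.residue R)).toAlgebra
  have hev : ∀ G : Polynomial R, Polynomial.aeval (AdjoinRoot.root f) G =
      Polynomial.aeval (AdjoinRoot.root f) (G.map (IsLocalRing.residue R)) := fun G => by
    rw [Polynomial.aeval_def, Polynomial.aeval_def, AdjoinRoot.algebraMap_eq,
      Polynomial.eval₂_map]
    rfl
  have hP : P.HasMap (AdjoinRoot.root f) := by
    refine ⟨?_, ?_⟩
    · rw [hev, hF, Polynomial.aeval_def, AdjoinRoot.algebraMap_eq, AdjoinRoot.eval₂_root]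
    · rw [hev, ← Polynomial.derivative_map, hF, isUnit_iff_ne_zero]
      exact hsep.aeval_derivative_ne_zero (x := AdjoinRoot.root f)
        (by rw [Polynomial.aeval_def, AdjoinRoot.algebraMap_eq, AdjoinRoot.eval₂_root])
  obtain ⟨τ⟩ := hpt P.Ring K (P.lift _ hP).toRingHom fun a ha => by
    refine ((P.lift _ hP).commutes _).trans ?_
    change AdjoinRoot.of f (IsLocalRing.residue R (algebraMap A R a)) = 0
    rw [hres a ha, map_zero]
  refine ⟨IsLocalRing.residue R (τ P.X), ?_⟩
  have h0 : Polynomial.eval (τ P.X) F = 0 := by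
    rw [← Polynomial.coe_aeval_eq_eval, Polynomial.aeval_algHom_apply,
      show Polynomial.aeval P.X F = 0 from P.hasMap_X.1, map_zero]
  rw [← hF, Polynomial.eval_map_apply (f := IsLocalRing.residue R), h0, map_zero]

theorem exists_indEtale_lift_quotient (I : Ideal A) (Cb : Type u) [CommRing Cb]
    [Algebra (A ⧸ I) Cb] (h : EtFactors (A ⧸ I) Cb) :
    ∃ (C : Type u) (_ : CommRing C) (_ : Algebra A C),
      EtPBC.IsIndEtale A C ∧ Nonempty ((C ⧸ I.map (algebraMap A C)) ≃ₐ[A ⧸ I] Cb) := by
  let : Algebra A Cb := ((algebraMap (A ⧸ I) Cb).comp (algebraMap A (A ⧸ I))).toAlgebra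
  have : IsScalarTower A (A ⧸ I) Cb := .of_algebraMap_eq' rfl
  let H := Hensel.Hens A Cb
  let π := Hensel.Hens.π A Cb
  have hsurj : Function.Surjective π := fun b => by
    obtain ⟨E, _, _, _, v, x, hx⟩ := h.exists_lift (fun _ : PUnit.{u+1} => b)
    obtain ⟨S, _, _, _, ⟨e⟩⟩ := AlgSpLoc.exists_etale_lift A I E
    obtain ⟨y, hy⟩ := e.surjective (x PUnit.unit)
    obtain ⟨y₀, rfl⟩ : ∃ y₀ : S, (1 : A ⧸ I) ⊗ₜ[A] y₀ = y :=
      TensorProduct.mk_surjective A S (A ⧸ I) Ideal.Quotient.mk_surjective y
    let σ : S →ₐ[A] Cb := ((v.comp e.toAlgHom).restrictScalars A).comp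
      (Algebra.TensorProduct.includeRight (R := A) (A := A ⧸ I))
    obtain ⟨φ, hφ⟩ := Hensel.Hens.exists_algHom S σ
    refine ⟨φ y₀, ?_⟩
    rw [← AlgHom.comp_apply π φ, hφ]
    change v (e ((1 : A ⧸ I) ⊗ₜ[A] y₀)) = b
    rw [hy, hx]
  have hker : RingHom.ker π = I.map (algebraMap A H) := by
    refine le_antisymm (fun z hz => ?_) (Ideal.map_le_iff_le_comap.mpr fun a ha => ?_)
    · obtain ⟨X, x, rfl⟩ := Hensel.Hens.exists_rep z
      have hx : X.point x = 0 := by rw [← Hensel.Hens.π_of]; exact hz
      let J := I.map (algebraMap A X.carrier)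
      let Xb := X.carrier ⧸ J
      let : Algebra (A ⧸ I) Xb :=
        (Ideal.Quotient.lift I ((Ideal.Quotient.mk J).comp (algebraMap A X.carrier)) fun a ha =>
          Ideal.Quotient.eq_zero_iff_mem.mpr (Ideal.mem_map_of_mem _ ha)).toAlgebra
      have : IsScalarTower A (A ⧸ I) Xb := .of_algebraMap_eq fun _ => rfl
      have hXb : Algebra.Etale (A ⧸ I) Xb :=
        Algebra.Etale.of_equiv (AlgEquiv.extendScalarsOfSurjective Ideal.Quotient.mk_surjective
          ((Algebra.TensorProduct.comm A (A ⧸ I) X.carrier).trans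
            ((Algebra.TensorProduct.quotIdealMapEquivTensorQuot X.carrier I).restrictScalars A).symm))
      let σ : Xb →ₐ[A ⧸ I] Cb :=
        { Ideal.Quotient.lift J X.point.toRingHom (fun y hy => by
            have : J ≤ RingHom.ker X.point := Ideal.map_le_iff_le_comap.mpr fun a ha => by
              rw [Ideal.mem_comap, RingHom.mem_ker, AlgHom.commutes]
              change algebraMap (A ⧸ I) Cb (Ideal.Quotient.mk I a) = 0
              rw [Ideal.Quotient.eq_zero_iff_mem.mpr ha, map_zero]
            exact this hy) with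
          commutes' := fun a => by
            obtain ⟨a, rfl⟩ := Ideal.Quotient.mk_surjective a
            exact X.point.commutes a }
      have hσx : σ (Ideal.Quotient.mk J x) = 0 := hx
      have : Algebra.FinitePresentation (A ⧸ I) (Xb ⧸ Ideal.span {Ideal.Quotient.mk J x}) :=
        Algebra.FinitePresentation.quotient (Submodule.fg_span_singleton _)
      obtain ⟨E, _, _, hE, u, v, huv⟩ := h (Xb ⧸ Ideal.span {Ideal.Quotient.mk J x})
        (Ideal.Quotient.liftₐ _ σ fun y hy => by
          obtain ⟨c, rfl⟩ := Ideal.mem_span_singleton'.mp hy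
          simp [hσx])
      let w : Xb →ₐ[A ⧸ I] E := u.comp (Ideal.Quotient.mkₐ _ _)
      let : Algebra Xb E := w.toRingHom.toAlgebra
      have : IsScalarTower (A ⧸ I) Xb E := .of_algebraMap_eq fun r => (w.commutes r).symm
      have : Algebra.Etale Xb E := Algebra.Etale.of_restrictScalars (A ⧸ I) Xb E
      let : Algebra X.carrier E := (w.toRingHom.comp (Ideal.Quotient.mk J)).toAlgebra
      have : IsScalarTower X.carrier Xb E := .of_algebraMap_eq' rfl
      obtain ⟨Q, _, _, τ, hQ, -, hτker⟩ :=
        AlgSpc.exists_etale_lift X.carrier Xb E Ideal.Quotient.mk_surjective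
      let : Algebra A Q := ((algebraMap X.carrier Q).comp (algebraMap A X.carrier)).toAlgebra
      have : IsScalarTower A X.carrier Q := .of_algebraMap_eq' rfl
      have : Algebra.Etale A Q := Algebra.Etale.comp A X.carrier Q
      have hfac : ∀ y, v (τ (algebraMap X.carrier Q y)) = X.point y := fun y => by
        rw [τ.commutes]
        exact DFunLike.congr_fun huv (Ideal.Quotient.mk _ (Ideal.Quotient.mk J y))
      let σQ : Q →ₐ[A] Cb :=
        { v.toRingHom.comp τ.toRingHom with
          commutes' := fun a => (hfac (algebraMap A X.carrier a)).trans (X.point.commutes a) }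
      let f : X ⟶ Hensel.Nbhd.mk' Q σQ :=
        Hensel.Nbhd.homMk' (IsScalarTower.toAlgHom A X.carrier Q) hfac
      rw [← Hensel.Hens.of_hom f x, Hensel.Nbhd.homMk'_apply]
      have hmem : algebraMap X.carrier Q x ∈ I.map (algebraMap A Q) := by
        rw [IsScalarTower.algebraMap_eq A X.carrier Q, ← Ideal.map_map]
        have h2 : algebraMap X.carrier Q x ∈ RingHom.ker τ.toRingHom := by
          rw [RingHom.mem_ker]
          refine (τ.commutes x).trans ?_
          change u (Ideal.Quotient.mk _ (Ideal.Quotient.mk J x)) = 0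
          rw [Ideal.Quotient.eq_zero_iff_mem.mpr (Ideal.mem_span_singleton_self _), map_zero]
        rw [hτker] at h2
        rwa [show RingHom.ker (algebraMap X.carrier Xb) = J from Ideal.mk_ker] at h2
      have h3 := Ideal.mem_map_of_mem ((Hensel.Hens.of (Hensel.Nbhd.mk' Q σQ)).comp
        (Hensel.Nbhd.equiv Q σQ).symm.toAlgHom).toRingHom hmem
      rw [Ideal.map_map] at h3
      refine (show _ = I.map (algebraMap A H) from congrArg (fun g => Ideal.map g I) ?_).le h3
      exact RingHom.ext fun a => ((Hensel.Hens.of (Hensel.Nbhd.mk' Q σQ)).comp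
        (Hensel.Nbhd.equiv Q σQ).symm.toAlgHom).commutes a
    · rw [Ideal.mem_comap, RingHom.mem_ker, AlgHom.commutes]
      change algebraMap (A ⧸ I) Cb (Ideal.Quotient.mk I a) = 0
      rw [Ideal.Quotient.eq_zero_iff_mem.mpr ha, map_zero]
  have hind : EtPBC.IsIndEtale A H :=
    Hensel.isIndEtale_of_algEquiv_hens (AlgEquiv.refl (R := A) (A₁ := H))
  refine ⟨H, inferInstance, inferInstance, hind,
    ⟨AlgEquiv.extendScalarsOfSurjective Ideal.Quotient.mk_surjective
      ((Ideal.quotientEquivAlgOfEq A hker.symm).trans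
        (Ideal.quotientKerAlgEquivOfSurjective hsurj))⟩⟩

end Groth.Agent.IndEt
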