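import Groth.Agent.Hensel.IndEtale
import Mathlib.Algebra.Category.Ring.FinitePresentation
import Mathlib.Algebra.Category.Ring.Under.Basic
import Mathlib.RingTheory.FinitePresentation
import Mathlib.CategoryTheory.Limits.Constructions.Over.Connected

/-!
# Ind-étale algebras: the factorization criterion
-/

set_option autoImplicit false
set_option backward.isDefEq.respectTransparency false

universe u

open CategoryTheory CategoryTheory.Limits TensorProduct

namespace Groth.Agent.IndEt

/-- every map from a finitely presented algebra factors through an étale algebra -/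
def EtFactors (A B : Type u) [CommRing A] [CommRing B] [Algebra A B] : Prop :=
  ∀ (C : Type u) [CommRing C] [Algebra A C] [Algebra.FinitePresentation A C] (g : C →ₐ[A] B),
    ∃ (E : Type u) (_ : CommRing E) (_ : Algebra A E), Algebra.Etale A E ∧
      ∃ (u : C →ₐ[A] E) (v : E →ₐ[A] B), v.comp u = g

/-- the algebra structure on an object under `A` -/
@[reducible] def algebraUnder {A : Type u} [CommRing A] (X : Under (CommRingCat.of A)) :
    Algebra A X.right := X.hom.hom.toAlgebra

attribute [local instance] algebraUnder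

section UnderHom

variable {A : Type u} [CommRing A]

/-- a morphism out of `mkUnder` as an algebra map -/
def outHom {C : Type u} [CommRing C] [Algebra A C] {X : Under (CommRingCat.of A)}
    (f : CommRingCat.mkUnder (CommRingCat.of A) C ⟶ X) : C →ₐ[A] X.right where
  __ := f.right.hom
  commutes' r := congrArg (fun g : CommRingCat.of A ⟶ X.right => g.hom r) (Under.w f)

theorem outHom_apply {C : Type u} [CommRing C] [Algebra A C] {X : Under (CommRingCat.of A)}
    (f : CommRingCat.mkUnder (CommRingCat.of A) C ⟶ X) (x : C) : outHom f x = f.right.hom x := rfl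

/-- morphisms under `A` as algebra maps -/
def underHom {X Y : Under (CommRingCat.of A)} (f : X ⟶ Y) : X.right →ₐ[A] Y.right where
  __ := f.right.hom
  commutes' r := congrArg (fun g : CommRingCat.of A ⟶ Y.right => g.hom r) (Under.w f)

/-- an algebra map as a morphism out of `mkUnder` -/
def inHom {C : Type u} [CommRing C] [Algebra A C] {X : Under (CommRingCat.of A)}
    (g : C →ₐ[A] X.right) : CommRingCat.mkUnder (CommRingCat.of A) C ⟶ X :=
  Under.homMk (CommRingCat.ofHom g.toRingHom) (by ext r; exact g.commutes r)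

/-- maps from finitely presented algebras to a filtered colimit factor through a stage -/
theorem exists_factor_stage {J : Type u} [SmallCategory J] [IsFiltered J]
    {D : J ⥤ Under (CommRingCat.of A)} {c : Cocone D} (hc : IsColimit c)
    (C : Type u) [CommRing C] [Algebra A C] [Algebra.FinitePresentation A C]
    (g : C →ₐ[A] c.pt.right) :
    ∃ (j : J) (u : C →ₐ[A] (D.obj j).right), (underHom (c.ι.app j)).comp u = g := by
  have hfp : (algebraMap A C).FinitePresentation :=
    RingHom.finitePresentation_algebraMap.mpr ‹_›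
  have : IsFinitelyPresentable.{u} (CommRingCat.mkUnder (CommRingCat.of A) C) :=
    CommRingCat.isFinitelyPresentable_under _ _ hfp
  obtain ⟨j, f, hf⟩ := IsFinitelyPresentable.exists_hom_of_isColimit hc (inHom g)
  refine ⟨j, outHom f, AlgHom.ext fun x => ?_⟩
  exact congrArg (fun k => k.right.hom x) hf

end UnderHom

variable {A B : Type u} [CommRing A] [CommRing B] [Algebra A B]

theorem etFactors_of_isIndEtale (h : EtPBC.IsIndEtale A B) : EtFactors A B := by
  obtain ⟨J, _, _, D, c, hc, het, ⟨e⟩⟩ := h
  intro C _ _ _ g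
  let e₂ : c.pt.right →ₐ[A] B :=
    { e.hom.right.hom with
      commutes' := fun r => congrArg (fun k : CommRingCat.of A ⟶ CommRingCat.of B => k.hom r)
        (Under.w e.hom) }
  let e₁ : B →ₐ[A] c.pt.right :=
    outHom (e.inv : CommRingCat.mkUnder (CommRingCat.of A) B ⟶ c.pt)
  obtain ⟨j, u, hu⟩ := exists_factor_stage hc C (e₁.comp g)
  refine ⟨(D.obj j).right, inferInstance, algebraUnder _, het j, u,
    e₂.comp (underHom (c.ι.app j)), AlgHom.ext fun x => ?_⟩
  rw [AlgHom.comp_assoc, hu]
  exact congrArg (fun k => k.right.hom (g x)) e.inv_hom_id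

theorem isIndEtale_of_etFactors (h : EtFactors A B) : EtPBC.IsIndEtale A B := by
  refine Hensel.isIndEtale_of_algEquiv_hens (K := B)
    (AlgEquiv.ofBijective (Hensel.Hens.π A B) ⟨?_, ?_⟩)
  · rw [injective_iff_map_eq_zero]
    intro z hz
    obtain ⟨X, x, rfl⟩ := Hensel.Hens.exists_rep z
    rw [Hensel.Hens.π_of] at hz
    have : Algebra.FinitePresentation A (X.carrier ⧸ Ideal.span {x}) :=
      Algebra.FinitePresentation.quotient ⟨{x}, by simp⟩
    obtain ⟨E, _, _, _, u, v, huv⟩ := h (X.carrier ⧸ Ideal.span {x})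
      (Ideal.Quotient.liftₐ _ X.point fun y hy => by
        obtain ⟨c, rfl⟩ := Ideal.mem_span_singleton'.mp hy
        simp [hz])
    let f : X ⟶ Hensel.Nbhd.mk' E v :=
      Hensel.Nbhd.homMk' (u.comp (Ideal.Quotient.mkₐ A _)) fun y =>
        DFunLike.congr_fun huv (Ideal.Quotient.mkₐ A _ y)
    rw [← map_zero (Hensel.Hens.of X)]
    refine (Hensel.Hens.of_eq_iff _ _).mpr ⟨_, f, ?_⟩
    rw [map_zero, Hensel.Nbhd.homMk'_apply, AlgHom.comp_apply, Ideal.Quotient.mkₐ_eq_mk,
      Ideal.Quotient.eq_zero_iff_mem.mpr (Ideal.mem_span_singleton_self x), map_zero, map_zero]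
  · intro b
    obtain ⟨E, _, _, _, u, v, huv⟩ := h (MvPolynomial PUnit.{u+1} A)
      (MvPolynomial.aeval fun _ => b)
    obtain ⟨φ, hφ⟩ := Hensel.Hens.exists_algHom E v
    refine ⟨φ (u (MvPolynomial.X PUnit.unit)), ?_⟩
    rw [← AlgHom.comp_apply (Hensel.Hens.π A B) φ, hφ, ← AlgHom.comp_apply v u, huv,
      MvPolynomial.aeval_X]

theorem isIndEtale_iff : EtPBC.IsIndEtale A B ↔ EtFactors A B :=
  ⟨etFactors_of_isIndEtale, isIndEtale_of_etFactors⟩

/-- finitely many elements lift to an étale stage -/
theorem EtFactors.exists_lift (h : EtFactors A B) {ι : Type u} [Finite ι] (b : ι → B) :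
    ∃ (E : Type u) (_ : CommRing E) (_ : Algebra A E), Algebra.Etale A E ∧
      ∃ (v : E →ₐ[A] B) (x : ι → E), ∀ i, v (x i) = b i := by
  obtain ⟨E, i₁, i₂, hE, u, v, huv⟩ := h (MvPolynomial ι A) (MvPolynomial.aeval b)
  exact ⟨E, i₁, i₂, hE, v, fun i => u (MvPolynomial.X i), fun i => by
    rw [← AlgHom.comp_apply, huv, MvPolynomial.aeval_X]⟩

end Groth.Agent.IndEt
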