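import Groth.Agent.IndEt.Ops
import Groth.Agent.Hensel.EtaleLift
import Groth.Prelude.Def_ProEtW
import Mathlib.FieldTheory.IsAlgClosed.AlgebraicClosure
import Mathlib.RingTheory.Jacobson.Ring

/-!
# Every ring has a faithfully flat ind-étale extension with étale retractions
-/

set_option autoImplicit false
set_option backward.isDefEq.respectTransparency false

universe u

open TensorProduct

namespace Groth.Agent.IndEt

/-- a finite type algebra over an algebraically closed field has a point -/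
theorem exists_point_algClosed (k E : Type u) [Field k] [IsAlgClosed k] [CommRing E] [Algebra k E]
    [Algebra.FiniteType k E] [Nontrivial E] : Nonempty (E →ₐ[k] k) := by
  obtain ⟨m, hm⟩ := Ideal.exists_maximal E
  let _ : Field (E ⧸ m) := Ideal.Quotient.field m
  have : Algebra.FiniteType k (E ⧸ m) :=
    Algebra.FiniteType.of_surjective (Ideal.Quotient.mkₐ k m) Ideal.Quotient.mk_surjective
  have : Module.Finite k (E ⧸ m) := finite_of_finite_type_of_isJacobsonRing k (E ⧸ m)
  let e := AlgEquiv.ofBijective (Algebra.ofId k (E ⧸ m)) IsAlgClosed.algebraMap_bijective_of_isIntegral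
  exact ⟨e.symm.toAlgHom.comp (Ideal.Quotient.mkₐ k m)⟩

/-- the product of geometric points of all points of `Spec A` -/
abbrev geomPoints (A : Type u) [CommRing A] : Type u :=
  ∀ p : PrimeSpectrum A, AlgebraicClosure p.asIdeal.ResidueField

theorem exists_indEtale_hasEtaleRetractions (A : Type u) [CommRing A] :
    ∃ (C : Type u) (_ : CommRing C) (_ : Algebra A C),
      Module.FaithfullyFlat A C ∧ EtPBC.IsIndEtale A C ∧ ProEtW.HasEtaleRetractions C := by
  let K := geomPoints A
  let C := Hensel.Hens A K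
  let π : C →ₐ[A] K := Hensel.Hens.π A K
  let pr : ∀ p : PrimeSpectrum A, C →ₐ[A] AlgebraicClosure p.asIdeal.ResidueField := fun p =>
    (Pi.evalAlgHom A (fun p : PrimeSpectrum A => AlgebraicClosure p.asIdeal.ResidueField) p).comp π
  have hind : EtPBC.IsIndEtale A C :=
    Hensel.isIndEtale_of_algEquiv_hens (AlgEquiv.refl (R := A) (A₁ := C))
  have hff : Module.FaithfullyFlat A C := by
    refine Module.FaithfullyFlat.of_comap_surjective fun p => ?_
    refine ⟨PrimeSpectrum.comap (pr p).toRingHom ⟨⊥, Ideal.isPrime_bot⟩, PrimeSpectrum.ext ?_⟩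
    ext a
    change pr p (algebraMap A C a) = 0 ↔ a ∈ p.asIdeal
    rw [AlgHom.commutes, IsScalarTower.algebraMap_apply A p.asIdeal.ResidueField,
      map_eq_zero_iff _ (algebraMap p.asIdeal.ResidueField _).injective,
      Ideal.algebraMap_residueField_eq_zero]
  refine ⟨C, inferInstance, inferInstance, hff, hind, fun E _ _ hffE hE => ?_⟩
  obtain ⟨C₀, F₀, _, _, hfg, hF₀, ⟨eF⟩⟩ :=
    Algebra.Etale.exists_subalgebra_fg (R := ℤ) (A := C) (B := E)
  obtain ⟨E₁, _, _, hE₁, w, v, hwv⟩ := (etFactors_of_isIndEtale hind).exists_stage_subring C₀ hfg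
  let : Algebra C₀ E₁ := w.toAlgebra
  let : Algebra E₁ C := v.toRingHom.toAlgebra
  have : IsScalarTower C₀ E₁ C := .of_algebraMap_eq fun b => (hwv b).symm
  have : IsScalarTower A E₁ C := .of_algebraMap_eq fun a => (v.commutes a).symm
  have : Algebra.Etale A (E₁ ⊗[C₀] F₀) := Algebra.Etale.comp A E₁ _
  let e : C ⊗[E₁] (E₁ ⊗[C₀] F₀) ≃ₐ[C] E :=
    (Algebra.TensorProduct.cancelBaseChange C₀ E₁ C C F₀).trans eF.symm
  have hpt : ∀ p : PrimeSpectrum A, ∃ s : E →+* AlgebraicClosure p.asIdeal.ResidueField,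
      ∀ c, s (algebraMap C E c) = pr p c := by
    intro p
    let k := AlgebraicClosure p.asIdeal.ResidueField
    let : Algebra C k := (pr p).toRingHom.toAlgebra
    have : Nontrivial (k ⊗[C] E) := (TensorProduct.comm C E k).toEquiv.symm.nontrivial
    obtain ⟨σ⟩ := exists_point_algClosed k (k ⊗[C] E)
    let τ : E →ₐ[C] k :=
      (σ.restrictScalars C).comp (Algebra.TensorProduct.includeRight (R := C) (A := k))
    exact ⟨τ.toRingHom, fun c => τ.commutes c⟩
  choose s hs using hpt
  let ι : E₁ ⊗[C₀] F₀ →+* E :=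
    e.toRingHom.comp (Algebra.TensorProduct.includeRight (R := E₁) (A := C)).toRingHom
  have hι : ∀ x : E₁, ι (algebraMap E₁ _ x) = algebraMap C E (v x) := fun x => by
    change e ((1 : C) ⊗ₜ[E₁] algebraMap E₁ (E₁ ⊗[C₀] F₀) x) = algebraMap C E (v x)
    rw [← e.commutes]
    exact congrArg e (((Algebra.TensorProduct.includeRight (R := E₁) (A := C)).commutes x).trans
      (IsScalarTower.algebraMap_apply E₁ C _ x))
  let σ : E₁ ⊗[C₀] F₀ →ₐ[A] K :=
    { RingHom.pi (fun p => (s p).comp ι) with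
      commutes' := fun a => funext fun p => by
        change s p (ι (algebraMap A (E₁ ⊗[C₀] F₀) a)) = algebraMap A _ a
        rw [IsScalarTower.algebraMap_apply A E₁ (E₁ ⊗[C₀] F₀), hι, hs, v.commutes, AlgHom.commutes] }
  obtain ⟨φ, hφ⟩ := Hensel.Hens.exists_algHom (E₁ ⊗[C₀] F₀) σ
  have hagree : φ.comp (IsScalarTower.toAlgHom A E₁ (E₁ ⊗[C₀] F₀)) = v := by
    refine Hensel.algHom_ext_of_unramified Hensel.Hens.ker_π_le_jacobson fun x => ?_
    rw [RingHom.mem_ker, map_sub, sub_eq_zero]
    change π (φ (algebraMap E₁ _ x)) = π (v x)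
    rw [← AlgHom.comp_apply π φ, hφ]
    funext p
    change s p (ι (algebraMap E₁ _ x)) = pr p (v x)
    rw [hι, hs]
  let φ' : E₁ ⊗[C₀] F₀ →ₐ[E₁] C :=
    { φ.toRingHom with commutes' := fun x => DFunLike.congr_fun hagree x }
  exact ⟨(Algebra.TensorProduct.lift (Algebra.ofId C C) φ' fun _ _ => .all _ _).comp
    e.symm.toAlgHom⟩

end Groth.Agent.IndEt
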