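import Groth.Agent.IndEt.Basic
import Mathlib.RingTheory.Etale.Weakly
import Mathlib.RingTheory.Smooth.NoetherianDescent
import Mathlib.RingTheory.Ideal.Pure
import Mathlib.RingTheory.TensorProduct.Finite

/-!
# Ind-étale algebras: weakly étale, base change, composition, cancellation, colimits
-/

set_option autoImplicit false
set_option backward.isDefEq.respectTransparency false

universe u

open CategoryTheory CategoryTheory.Limits TensorProduct

namespace Groth.Agent.IndEt

attribute [local instance] algebraUnder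

variable {A B : Type u} [CommRing A] [CommRing B] [Algebra A B]

/-! ### weakly étale -/

theorem EtFactors.flat (h : EtFactors A B) : Module.Flat A B := by
  refine Module.Flat.of_forall_isTrivialRelation fun {l f z} hz => ?_
  let r : MvPolynomial (ULift.{u} (Fin l)) A := ∑ i, f i • MvPolynomial.X ⟨i⟩
  have : Algebra.FinitePresentation A (MvPolynomial (ULift.{u} (Fin l)) A ⧸ Ideal.span {r}) :=
    Algebra.FinitePresentation.quotient ⟨{r}, by simp⟩
  have hr : MvPolynomial.aeval (fun i : ULift.{u} (Fin l) => z i.down) r = 0 := by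
    simp [r, map_sum, map_smul, hz]
  obtain ⟨E, _, _, _, u, v, huv⟩ := h (MvPolynomial (ULift.{u} (Fin l)) A ⧸ Ideal.span {r})
    (Ideal.Quotient.liftₐ _ (MvPolynomial.aeval fun i => z i.down) fun y hy => by
      obtain ⟨c, rfl⟩ := Ideal.mem_span_singleton'.mp hy
      rw [map_mul, hr, mul_zero])
  let x : Fin l → E := fun i => u (Ideal.Quotient.mk _ (MvPolynomial.X ⟨i⟩))
  have hx : ∑ i, f i • x i = 0 := by
    have h0 : u (Ideal.Quotient.mkₐ A (Ideal.span {r}) r) = 0 := by
      rw [Ideal.Quotient.mkₐ_eq_mk,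
        Ideal.Quotient.eq_zero_iff_mem.mpr (Ideal.mem_span_singleton_self r), map_zero]
    simpa [r, x, map_sum, map_smul] using h0
  have hvx : ∀ i, v (x i) = z i := fun i => by
    refine (DFunLike.congr_fun huv _).trans ?_
    exact MvPolynomial.aeval_X (fun i : ULift.{u} (Fin l) => z i.down) ⟨i⟩
  obtain ⟨k, a, y, hy, ha⟩ := Module.Flat.isTrivialRelation_of_sum_smul_eq_zero hx
  exact ⟨k, a, fun j => v (y j), fun i => by rw [← hvx i, hy i, map_sum]; simp, ha⟩

theorem EtFactors.weaklyEtale (h : EtFactors A B) : Algebra.WeaklyEtale A B := by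
  classical
  have := h.flat
  let μ := Algebra.TensorProduct.lmul' A (S := B)
  let I : Ideal (B ⊗[A] B) := RingHom.ker μ
  have hpure : ∀ x ∈ I, ∃ y ∈ I, x = x * y := by
    intro x hx
    obtain ⟨S, hS⟩ := TensorProduct.exists_finset x
    obtain ⟨E, _, _, _, v, w, hw⟩ := h.exists_lift (ι := S ⊕ S)
      (Sum.elim (fun p => p.1.1) fun p => p.1.2)
    let Φ := Algebra.TensorProduct.map v v
    let z : E ⊗[A] E := ∑ p : S, w (Sum.inl p) ⊗ₜ w (Sum.inr p)
    have hz : Φ z = x := by
      simp only [z, Φ, map_sum, Algebra.TensorProduct.map_tmul, hw, Sum.elim_inl, Sum.elim_inr]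
      rw [hS, ← Finset.sum_coe_sort S]
    let μE := Algebra.TensorProduct.lmul' A (S := E)
    have hμ : μ.comp Φ = v.comp μE :=
      Algebra.TensorProduct.ext (AlgHom.ext fun a => by simp [μ, Φ, μE])
        (AlgHom.ext fun a => by simp [μ, Φ, μE])
    have hvz : v (μE z) = 0 := by
      rw [← AlgHom.comp_apply, ← hμ, AlgHom.comp_apply, hz]
      exact hx
    let z' := z - μE z ⊗ₜ[A] (1 : E)
    have hz'μ : μE z' = 0 := by simp [z', μE]
    have hz'Φ : Φ z' = x := by
      rw [map_sub, hz, Algebra.TensorProduct.map_tmul, hvz, zero_tmul, sub_zero]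
    obtain ⟨e, he, hee⟩ : ∃ e ∈ KaehlerDifferential.ideal A E, z' = z' * e := by
      have : (KaehlerDifferential.ideal A E).Pure := by
        let _ := μE.toRingHom.toAlgebra
        have : Module.Flat (E ⊗[A] E) E := Algebra.WeaklyEtale.flat_lmul' A E
        have hs : Function.Surjective μE := fun b => ⟨b ⊗ₜ 1, by simp [μE]⟩
        exact Module.Flat.of_linearEquiv (Ideal.quotientKerAlgEquivOfSurjective
          (f := Algebra.ofId (E ⊗[A] E) E) hs).toLinearEquiv
      exact Ideal.exists_eq_mul_of_pure hz'μ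
    refine ⟨Φ e, ?_, ?_⟩
    · change μ (Φ e) = 0
      rw [← AlgHom.comp_apply, hμ, AlgHom.comp_apply, show μE e = 0 from he, map_zero]
    · rw [← hz'Φ, ← map_mul, ← hee]
  have hp : I.Pure := Ideal.Pure.of_inf_eq_mul I fun J _ =>
    le_antisymm (fun x hx => by
      obtain ⟨y, hy, hxy⟩ := hpure x hx.1
      rw [hxy]
      exact mul_comm y x ▸ Ideal.mul_mem_mul hy hx.2) Ideal.mul_le_inf
  refine ⟨inferInstance, ?_⟩
  let _ := μ.toRingHom.toAlgebra
  have hs : Function.Surjective μ := fun b => ⟨b ⊗ₜ 1, by simp [μ]⟩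
  have : Module.Flat (B ⊗[A] B) ((B ⊗[A] B) ⧸ RingHom.ker (Algebra.ofId (B ⊗[A] B) B)) := hp
  exact Module.Flat.of_linearEquiv (Ideal.quotientKerAlgEquivOfSurjective
    (f := Algebra.ofId (B ⊗[A] B) B) hs).symm.toLinearEquiv

/-! ### colimits -/

theorem etFactors_of_isColimit {J : Type u} [SmallCategory J] [IsFiltered J]
    {D : J ⥤ Under (CommRingCat.of A)} {c : Cocone D} (hc : IsColimit c)
    (e : c.pt ≅ Under.mk (CommRingCat.ofHom (algebraMap A B)))
    (hD : ∀ j, EtFactors A (D.obj j).right) : EtFactors A B := by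
  intro C _ _ _ g
  let e₂ : c.pt.right →ₐ[A] B :=
    { e.hom.right.hom with
      commutes' := fun r => congrArg (fun k : CommRingCat.of A ⟶ CommRingCat.of B => k.hom r)
        (Under.w e.hom) }
  let e₁ : B →ₐ[A] c.pt.right :=
    outHom (e.inv : CommRingCat.mkUnder (CommRingCat.of A) B ⟶ c.pt)
  obtain ⟨j, u, hu⟩ := exists_factor_stage hc C (e₁.comp g)
  obtain ⟨E, i₁, i₂, hE, u', v', huv⟩ := hD j C u
  refine ⟨E, i₁, i₂, hE, u', (e₂.comp (underHom (c.ι.app j))).comp v', AlgHom.ext fun x => ?_⟩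
  rw [AlgHom.comp_assoc, huv, AlgHom.comp_assoc, hu]
  exact congrArg (fun k => k.right.hom (g x)) e.inv_hom_id

/-! ### base change -/

section BC

variable (A' : Type u) [CommRing A'] [Algebra A A']

/-- the identification of `A' ⊗ X` with the object under `A'` -/
def toTensorProd (X : Under (CommRingCat.of A)) :
    A' ⊗[A] X.right →ₐ[A'] ((CommRingCat.tensorProd (CommRingCat.of A) (CommRingCat.of A')).obj X).right where
  toFun x := x
  map_one' := rfl
  map_mul' _ _ := rfl
  map_zero' := rfl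
  map_add' _ _ := rfl
  commutes' _ := rfl

/-- its inverse -/
def ofTensorProd (X : Under (CommRingCat.of A)) :
    ((CommRingCat.tensorProd (CommRingCat.of A) (CommRingCat.of A')).obj X).right →ₐ[A'] A' ⊗[A] X.right where
  toFun x := x
  map_one' := rfl
  map_mul' _ _ := rfl
  map_zero' := rfl
  map_add' _ _ := rfl
  commutes' _ := rfl

theorem EtFactors.baseChange (h : EtFactors A B) : EtFactors A' (A' ⊗[A] B) := by
  obtain ⟨J, _, _, D, c, hc, het, ⟨e⟩⟩ := isIndEtale_of_etFactors h
  let F := CommRingCat.tensorProd (CommRingCat.of A) (CommRingCat.of A')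
  have : PreservesColimitsOfShape J F :=
    preservesColimitsOfShape_of_natIso (CommRingCat.tensorProdIsoPushout _ _).symm
  intro C _ _ _ g
  let e₁ : A' ⊗[A] B →ₐ[A'] A' ⊗[A] c.pt.right :=
    Algebra.TensorProduct.map (AlgHom.id A' A')
      (outHom (e.inv : CommRingCat.mkUnder (CommRingCat.of A) B ⟶ c.pt))
  let e₂ : c.pt.right →ₐ[A] B :=
    { e.hom.right.hom with
      commutes' := fun r => congrArg (fun k : CommRingCat.of A ⟶ CommRingCat.of B => k.hom r)
        (Under.w e.hom) }
  obtain ⟨j, u, hu⟩ := exists_factor_stage (isColimitOfPreserves F hc) C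
    ((toTensorProd A' c.pt).comp (e₁.comp g))
  have := het j
  refine ⟨A' ⊗[A] (D.obj j).right, inferInstance, inferInstance, inferInstance,
    (ofTensorProd A' (D.obj j)).comp u,
    Algebra.TensorProduct.map (AlgHom.id A' A') (e₂.comp (underHom (c.ι.app j))),
    AlgHom.ext fun x => ?_⟩
  have h2 : (Algebra.TensorProduct.map (AlgHom.id A' A') e₂).comp e₁ = AlgHom.id A' _ := by
    refine Algebra.TensorProduct.ext' fun a b => ?_
    simp only [e₁, AlgHom.comp_apply, Algebra.TensorProduct.map_tmul, AlgHom.id_apply]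
    exact congrArg (fun t => a ⊗ₜ[A] t) (congrArg (fun k => k.right.hom b) e.inv_hom_id)
  have h3 : Algebra.TensorProduct.map (AlgHom.id A' A') (e₂.comp (underHom (c.ι.app j))) =
      (Algebra.TensorProduct.map (AlgHom.id A' A') e₂).comp
        (Algebra.TensorProduct.map (AlgHom.id A' A') (underHom (c.ι.app j))) := by
    rw [← Algebra.TensorProduct.map_id_comp]
  have h4 : (Algebra.TensorProduct.map (AlgHom.id A' A') (underHom (c.ι.app j)))
      (ofTensorProd A' (D.obj j) (u x)) = e₁ (g x) := DFunLike.congr_fun hu x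
  simp only [h3, AlgHom.comp_apply]
  exact (congrArg _ h4).trans (DFunLike.congr_fun h2 (g x))

end BC

theorem EtFactors.congr {B' : Type u} [CommRing B'] [Algebra A B'] (h : EtFactors A B)
    (e : B ≃ₐ[A] B') : EtFactors A B' := by
  intro C _ _ _ g
  obtain ⟨E, i₁, i₂, hE, u, v, huv⟩ := h C (e.symm.toAlgHom.comp g)
  refine ⟨E, i₁, i₂, hE, u, e.toAlgHom.comp v, AlgHom.ext fun x => ?_⟩
  rw [AlgHom.comp_assoc, huv]
  exact e.apply_symm_apply (g x)

/-! ### cancellation and composition -/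

/-- a finitely presented algebra is defined over a finitely generated subring -/
theorem exists_descent_subring (R T : Type u) [CommRing R] [CommRing T] [Algebra R T]
    [Algebra.FinitePresentation R T] :
    ∃ (R₀ : Subalgebra ℤ R) (T₀ : Type u) (_ : CommRing T₀) (_ : Algebra R₀ T₀),
      R₀.FG ∧ Algebra.FinitePresentation R₀ T₀ ∧ Nonempty ((R ⊗[R₀] T₀) ≃ₐ[R] T) := by
  let P := Algebra.Presentation.ofFinitePresentation R T
  let R₀ := Algebra.adjoin ℤ P.coeffs
  have : P.HasCoeffs R₀ := ⟨by simp [R₀]⟩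
  exact ⟨R₀, P.ModelOfHasCoeffs R₀, inferInstance, inferInstance,
    ⟨P.finite_coeffs.toFinset, by simp [R₀]⟩, inferInstance,
    ⟨P.tensorModelOfHasCoeffsEquiv R₀⟩⟩

/-- a finitely generated subring of `B` maps into an étale stage -/
theorem EtFactors.exists_stage_subring (h : EtFactors A B) (B₀ : Subalgebra ℤ B) (hB₀ : B₀.FG) :
    ∃ (E : Type u) (_ : CommRing E) (_ : Algebra A E), Algebra.Etale A E ∧
      ∃ (w : B₀ →+* E) (v : E →ₐ[A] B), ∀ b : B₀, v (w b) = b := by
  have : Algebra.FiniteType ℤ B₀ := ⟨(Subalgebra.fg_top B₀).mpr hB₀⟩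
  have : Algebra.FinitePresentation ℤ B₀ := Algebra.FinitePresentation.of_finiteType.mp this
  let g : A ⊗[ℤ] B₀ →ₐ[A] B := Algebra.TensorProduct.lift (Algebra.ofId A B)
    B₀.val fun _ _ => .all _ _
  obtain ⟨E, i₁, i₂, hE, u, v, huv⟩ := h (A ⊗[ℤ] B₀) g
  refine ⟨E, i₁, i₂, hE,
    u.toRingHom.comp (Algebra.TensorProduct.includeRight (R := ℤ) (A := A)).toRingHom, v,
    fun b => ?_⟩
  refine (DFunLike.congr_fun huv ((1 : A) ⊗ₜ[ℤ] b)).trans ?_
  simp [g]

variable {C : Type u} [CommRing C] [Algebra A C] [Algebra B C] [IsScalarTower A B C]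

theorem EtFactors.cancel (hB : EtFactors A B) (hC : EtFactors A C) : EtFactors B C := by
  intro T _ _ _ g
  obtain ⟨B₀, T₀, _, _, hfg, _, ⟨eT₀⟩⟩ := exists_descent_subring B T
  obtain ⟨E, _, _, hE, w, v, hwv⟩ := hB.exists_stage_subring B₀ hfg
  let : Algebra B₀ E := w.toAlgebra
  let : Algebra E B := v.toRingHom.toAlgebra
  have : IsScalarTower B₀ E B := .of_algebraMap_eq fun b => (hwv b).symm
  have : IsScalarTower A E B := .of_algebraMap_eq fun a => (v.commutes a).symm
  have : Algebra.FinitePresentation A E := inferInstance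
  have : Algebra.FinitePresentation A (E ⊗[B₀] T₀) := Algebra.FinitePresentation.trans A E (E ⊗[B₀] T₀)
  let eT : B ⊗[E] (E ⊗[B₀] T₀) ≃ₐ[B] T := (Algebra.TensorProduct.cancelBaseChange B₀ E B B T₀).trans
    eT₀
  let g₁ : (E ⊗[B₀] T₀) →ₐ[A] C := ((g.comp eT.toAlgHom).restrictScalars A).comp
    ((Algebra.TensorProduct.includeRight (R := E) (A := B)).restrictScalars A)
  obtain ⟨E', _, _, hE', u', v', huv⟩ := hC (E ⊗[B₀] T₀) g₁
  let : Algebra E E' := (u'.toRingHom.comp (algebraMap E (E ⊗[B₀] T₀))).toAlgebra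
  have : IsScalarTower A E E' := .of_algebraMap_eq fun a => by
    change algebraMap A E' a = u' (algebraMap E (E ⊗[B₀] T₀) (algebraMap A E a))
    rw [← IsScalarTower.algebraMap_apply A E (E ⊗[B₀] T₀), u'.commutes]
  have : Algebra.Etale E E' := Algebra.Etale.of_restrictScalars A E E'
  let uE : (E ⊗[B₀] T₀) →ₐ[E] E' := { u'.toRingHom with commutes' := fun _ => rfl }
  let : Algebra E C := ((algebraMap B C).comp v.toRingHom).toAlgebra
  have : IsScalarTower E B C := .of_algebraMap_eq' rfl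
  have hvc : ∀ x : E, v' (algebraMap E E' x) = algebraMap E C x := fun x => by
    change v' (u' (algebraMap E (E ⊗[B₀] T₀) x)) = algebraMap B C (algebraMap E B x)
    rw [← AlgHom.comp_apply, huv]
    simp only [g₁, AlgHom.comp_apply, AlgHom.restrictScalars_apply, AlgHom.commutes,
      IsScalarTower.algebraMap_apply E B (B ⊗[E] (E ⊗[B₀] T₀))]
  let vE : E' →ₐ[E] C := { v'.toRingHom with commutes' := hvc }
  refine ⟨B ⊗[E] E', inferInstance, inferInstance, inferInstance,
    (Algebra.TensorProduct.map (AlgHom.id B B) uE).comp eT.symm.toAlgHom,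
    Algebra.TensorProduct.lift (Algebra.ofId B C) vE fun _ _ => .all _ _,
    AlgHom.ext fun t => ?_⟩
  obtain ⟨s, rfl⟩ := eT.surjective t
  simp only [AlgHom.comp_apply, AlgEquiv.toAlgHom_apply, eT.symm_apply_apply]
  induction s using TensorProduct.induction_on with
  | zero => simp
  | add x y hx hy => simp only [map_add, hx, hy]
  | tmul b x =>
    rw [Algebra.TensorProduct.map_tmul, AlgHom.id_apply, Algebra.TensorProduct.lift_tmul,
      show b ⊗ₜ[E] x = b • ((1 : B) ⊗ₜ[E] x) by rw [smul_tmul', smul_eq_mul, mul_one],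
      map_smul, map_smul, Algebra.smul_def]
    congr 1
    exact DFunLike.congr_fun huv x

theorem EtFactors.trans (hB : EtFactors A B) (hC : EtFactors B C) : EtFactors A C := by
  intro T _ _ _ g
  let gB : B ⊗[A] T →ₐ[B] C :=
    Algebra.TensorProduct.lift (Algebra.ofId B C) g fun _ _ => .all _ _
  obtain ⟨F, _, _, hF, uF, vF, huF⟩ := hC (B ⊗[A] T) gB
  obtain ⟨B₀, F₀, _, _, hfg, hF₀, ⟨eF⟩⟩ := Algebra.Etale.exists_subalgebra_fg (R := ℤ) (A := B) (B := F)
  obtain ⟨E, _, _, hE, w, v, hwv⟩ := hB.exists_stage_subring B₀ hfg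
  let : Algebra B₀ E := w.toAlgebra
  let : Algebra E B := v.toRingHom.toAlgebra
  have : IsScalarTower B₀ E B := .of_algebraMap_eq fun b => (hwv b).symm
  have : IsScalarTower A E B := .of_algebraMap_eq fun a => (v.commutes a).symm
  let F₁ := E ⊗[B₀] F₀
  have : Algebra.Etale A F₁ := Algebra.Etale.comp A E F₁
  let eF₁ : B ⊗[E] F₁ ≃ₐ[B] F :=
    (Algebra.TensorProduct.cancelBaseChange B₀ E B B F₀).trans eF.symm
  have hEA : EtFactors A E := fun C' _ _ _ g' =>
    ⟨E, inferInstance, inferInstance, hE, g', AlgHom.id A E, AlgHom.ext fun _ => rfl⟩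
  have hW : EtFactors F₁ (F₁ ⊗[E] B) := (hEA.cancel hB).baseChange F₁
  let uT : T →ₐ[A] F₁ ⊗[E] B :=
    ((Algebra.TensorProduct.comm E B F₁).toAlgHom.restrictScalars A).comp
      (((eF₁.symm.toAlgHom.comp uF).restrictScalars A).comp
        ((Algebra.TensorProduct.includeRight (R := A) (A := B) (B := T))))
  let uT' : F₁ ⊗[A] T →ₐ[F₁] F₁ ⊗[E] B :=
    Algebra.TensorProduct.lift (Algebra.ofId F₁ _) uT fun _ _ => .all _ _
  obtain ⟨G, _, _, hG, u, vG, huv⟩ := hW (F₁ ⊗[A] T) uT'
  let : Algebra A G := ((algebraMap F₁ G).comp (algebraMap A F₁)).toAlgebra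
  have : IsScalarTower A F₁ G := .of_algebraMap_eq' rfl
  let back : F₁ ⊗[E] B →ₐ[A] C := ((vF.comp eF₁.toAlgHom).restrictScalars A).comp
    ((Algebra.TensorProduct.comm E B F₁).symm.toAlgHom.restrictScalars A)
  refine ⟨G, inferInstance, inferInstance, Algebra.Etale.comp A F₁ G,
    (u.restrictScalars A).comp Algebra.TensorProduct.includeRight,
    back.comp (vG.restrictScalars A), AlgHom.ext fun t => ?_⟩
  have h1 : vG (u ((1 : F₁) ⊗ₜ[A] t)) = uT t := by
    rw [← AlgHom.comp_apply, huv]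
    simp [uT']
  simp only [AlgHom.comp_apply, AlgHom.restrictScalars_apply,
    Algebra.TensorProduct.includeRight_apply, h1]
  change vF (eF₁ ((Algebra.TensorProduct.comm E B F₁).symm
    (Algebra.TensorProduct.comm E B F₁ (eF₁.symm (uF ((1 : B) ⊗ₜ[A] t)))))) = g t
  rw [AlgEquiv.symm_apply_apply, AlgEquiv.apply_symm_apply, ← AlgHom.comp_apply, huF]
  simp [gB]

end Groth.Agent.IndEt
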